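import Cfsg.Agent.Lib.Small.PGLOrder

/-!
Orders in PGL of a matrix annihilated by a polynomial over a fixed field, and of a matrix preserving a
semibilinear form.
-/

set_option autoImplicit false
set_option linter.unusedSectionVars false

namespace Cfsg.Agent.Small.AutOrder

open Matrix Polynomial

variable {F : Type*} [Field F] [Fintype F] {d : ℕ}

/-- The order of a matrix modulo scalars. -/
noncomputable def pord (g : GL (Fin d) F) : ℕ :=
  orderOf (QuotientGroup.mk g : GL (Fin d) F ⧸ Subgroup.center (GL (Fin d) F))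

/-- A matrix with a coefficient vector. -/
def comb (M : Matrix (Fin d) (Fin d) F) {m : ℕ} (c : Fin m → F) : Matrix (Fin d) (Fin d) F :=
  ∑ i : Fin m, c i • M ^ (i : ℕ)

theorem comb_mod {M : Matrix (Fin d) (Fin d) F} {P : F[X]} (hP : P.Monic) (hm : 1 ≤ P.natDegree)
    (h0 : aeval M P = 0) (Q : F[X]) :
    comb M (fun i : Fin P.natDegree => (Q %ₘ P).coeff i) = aeval M Q := by
  have hdeg : (Q %ₘ P).natDegree < P.natDegree := natDegree_modByMonic_lt Q hP (fun h1 => by
    rw [h1, natDegree_one] at hm; omega)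
  conv_rhs => rw [← modByMonic_add_div Q P]
  rw [map_add, map_mul, h0, zero_mul, add_zero, aeval_eq_sum_range' hdeg, Finset.sum_range]
  rfl

/-- The scalar matrices in `GL`. -/
theorem mem_center_of_smul {g : GL (Fin d) F} {a : F} (h : g.val = a • (1 : Matrix (Fin d) (Fin d) F)) :
    g ∈ Subgroup.center (GL (Fin d) F) := by
  rw [Subgroup.mem_center_iff]
  intro x
  apply Units.ext
  rw [Units.val_mul, Units.val_mul, h, Matrix.smul_mul, Matrix.mul_smul, one_mul, mul_one]

theorem pord_le (hd : 1 ≤ d) (ρ : F ≃+* F) (g : GL (Fin d) F) {P : F[X]} (hP : P.Monic)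
    (hm : 1 ≤ P.natDegree) (h0 : aeval g.val P = 0) (hρ : P.map (ρ : F →+* F) = P) :
    (Nat.card {x : F // ρ x = x} - 1) * pord g ≤ Nat.card {x : F // ρ x = x} ^ P.natDegree - 1 := by
  classical
  haveI : Nonempty (Fin d) := ⟨⟨0, hd⟩⟩
  set F0 := {x : F // ρ x = x}
  have hpow : ∀ i : ℕ, comb g.val (fun j : Fin P.natDegree => ((X : F[X]) ^ i %ₘ P).coeff j) = g.val ^ i := by
    intro i
    rw [comb_mod hP hm h0, map_pow, aeval_X]
  have hfix : ∀ i j : ℕ, ρ (((X : F[X]) ^ i %ₘ P).coeff j) = ((X : F[X]) ^ i %ₘ P).coeff j := by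
    intro i j
    have h := Polynomial.map_modByMonic (ρ : F →+* F) hP (p := (X : F[X]) ^ i)
    rw [Polynomial.map_pow, Polynomial.map_X, hρ] at h
    conv_rhs => rw [← h, Polynomial.coeff_map]
    rfl
  let z : F0 := ⟨0, map_zero ρ⟩
  let f : Fin (pord g) × {a : F0 // a ≠ z} → {v : Fin P.natDegree → F0 // v ≠ fun _ => z} := fun x =>
    ⟨fun j => ⟨x.2.1.1 * ((X : F[X]) ^ (x.1 : ℕ) %ₘ P).coeff j, by rw [map_mul, x.2.1.2, hfix]⟩, by
      intro h
      have hzero : ∀ j, x.2.1.1 * ((X : F[X]) ^ (x.1 : ℕ) %ₘ P).coeff (j : Fin P.natDegree) = 0 := fun j =>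
        congrArg Subtype.val (congrFun h j)
      have ha : x.2.1.1 ≠ 0 := fun e => x.2.2 (Subtype.ext e)
      have hg : g.val ^ (x.1 : ℕ) = 0 := by
        rw [← hpow]
        refine Finset.sum_eq_zero fun j _ => ?_
        simp only [(mul_eq_zero.1 (hzero j)).resolve_left ha, zero_smul]
      rw [← Units.val_pow_eq_pow_val] at hg
      exact (g ^ (x.1 : ℕ)).ne_zero hg⟩
  have hf : Function.Injective f := by
    rintro ⟨i, a, ha⟩ ⟨j, b, hb⟩ h
    have h1 := congrArg Subtype.val h
    have hsmul : a.1 • g.val ^ (i : ℕ) = b.1 • g.val ^ (j : ℕ) := by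
      rw [← hpow, ← hpow, comb, comb, Finset.smul_sum, Finset.smul_sum]
      refine Finset.sum_congr rfl fun k _ => ?_
      rw [smul_smul, smul_smul]
      congr 1
      exact congrArg Subtype.val (congrFun h1 k)
    have ha0 : a.1 ≠ 0 := fun e => ha (Subtype.ext e)
    have hij : i = j := by
      have hc : (g ^ (i : ℕ))⁻¹ * g ^ (j : ℕ) ∈ Subgroup.center (GL (Fin d) F) := by
        have hb0 : b.1 ≠ 0 := fun e => hb (Subtype.ext e)
        refine mem_center_of_smul (a := a.1 / b.1) ?_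
        have e : g.val ^ (j : ℕ) = (a.1 / b.1) • g.val ^ (i : ℕ) := by
          rw [div_eq_mul_inv, mul_comm, ← smul_smul, hsmul, inv_smul_smul₀ hb0]
        rw [Units.val_mul, Units.val_pow_eq_pow_val, e, Matrix.mul_smul, ← Units.val_pow_eq_pow_val,
          Units.inv_mul]
      have e := (QuotientGroup.eq (s := Subgroup.center (GL (Fin d) F))).2 hc
      rw [QuotientGroup.mk_pow, QuotientGroup.mk_pow] at e
      exact Fin.ext (pow_injOn_Iio_orderOf (Set.mem_Iio.2 i.2) (Set.mem_Iio.2 j.2) e)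
    subst hij
    have hab : a.1 = b.1 := smul_left_injective F (g ^ (i : ℕ)).ne_zero (by
      rw [Units.val_pow_eq_pow_val]; exact hsmul)
    exact Prod.ext rfl (Subtype.ext (Subtype.ext hab))
  have h := Nat.card_le_card_of_injective f hf
  rw [Nat.card_prod, Nat.card_fin, Nat.card_eq_fintype_card, Nat.card_eq_fintype_card,
    Fintype.card_subtype_compl, Fintype.card_subtype_compl, Fintype.card_subtype_eq, Fintype.card_subtype_eq,
    Fintype.card_fun, Fintype.card_fin, ← Nat.card_eq_fintype_card] at h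
  rw [mul_comm]
  exact h

/-- The invertible polynomials in a matrix. -/
def polyUnits (g : GL (Fin d) F) : Subgroup (GL (Fin d) F) where
  carrier := {x | ∃ Q : F[X], aeval g.val Q = x.val}
  mul_mem' := by
    rintro a b ⟨P, hP⟩ ⟨Q, hQ⟩
    exact ⟨P * Q, by rw [map_mul, hP, hQ, Units.val_mul]⟩
  one_mem' := ⟨1, by rw [map_one, Units.val_one]⟩
  inv_mem' := by
    rintro a ⟨P, hP⟩
    refine ⟨P ^ (orderOf a - 1), ?_⟩
    rw [map_pow, hP, ← Units.val_pow_eq_pow_val]
    congr 1
    rw [eq_inv_iff_mul_eq_one, ← pow_succ, Nat.sub_add_cancel (orderOf_pos a), pow_orderOf_eq_one]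

theorem comap_card (hd : 1 ≤ d) (g : GL (Fin d) F) :
    Nat.card ((Subgroup.zpowers (QuotientGroup.mk g : GL (Fin d) F ⧸ Subgroup.center (GL (Fin d) F))).comap
      (QuotientGroup.mk' (Subgroup.center (GL (Fin d) F)))) = (Fintype.card F - 1) * pord g := by
  set Z := Subgroup.center (GL (Fin d) F) with hZ
  set T := Subgroup.zpowers (QuotientGroup.mk g : GL (Fin d) F ⧸ Z)
  have h1 := (T.comap (QuotientGroup.mk' Z)).card_mul_index
  rw [Subgroup.index_comap_of_surjective T (QuotientGroup.mk'_surjective Z),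
    Subgroup.card_eq_card_quotient_mul_card_subgroup Z, show Nat.card Z = Fintype.card F - 1 from
      PGLOrder.card_center hd, ← T.card_mul_index] at h1
  have hpos : 0 < T.index := Nat.pos_of_ne_zero Subgroup.index_ne_zero_of_finite
  refine Nat.eq_of_mul_eq_mul_right hpos (h1.trans ?_)
  rw [pord, ← Nat.card_zpowers]
  ring

theorem comap_mem (hd : 1 ≤ d) {g : GL (Fin d) F} {x : GL (Fin d) F}
    (hx : x ∈ (Subgroup.zpowers (QuotientGroup.mk g : GL (Fin d) F ⧸ Subgroup.center (GL (Fin d) F))).comap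
      (QuotientGroup.mk' (Subgroup.center (GL (Fin d) F)))) :
    ∃ (i : ℕ) (a : F), a ≠ 0 ∧ x.val = a • g.val ^ i := by
  obtain ⟨i, hi⟩ := Submonoid.mem_powers_iff _ _ |>.1 (mem_powers_iff_mem_zpowers.2 hx)
  rw [QuotientGroup.mk'_apply, ← QuotientGroup.mk_pow, QuotientGroup.eq] at hi
  rw [Matrix.GeneralLinearGroup.mem_center_iff_val_eq_scalar] at hi
  obtain ⟨a, ha⟩ := hi
  have hs : x.val = a • g.val ^ i := by
    have e : x.val = (g ^ i).val * ((g ^ i)⁻¹ * x : GL (Fin d) F).val := by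
      rw [← Units.val_mul, mul_inv_cancel_left]
    rw [e, ← ha, Units.val_pow_eq_pow_val, Matrix.smul_eq_mul_diagonal]
    rfl
  refine ⟨i, a, fun h0 => ?_, hs⟩
  rw [h0, zero_smul] at hs
  haveI : Nonempty (Fin d) := ⟨⟨0, hd⟩⟩
  exact x.ne_zero hs

end Cfsg.Agent.Small.AutOrder
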