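import Cfsg.Agent.Lib.Small.AutOrder.Core

/-!
A matrix preserving a semibilinear form has order modulo scalars at most half the Singer bound.
-/

set_option autoImplicit false
set_option linter.unusedSectionVars false

namespace Cfsg.Agent.Small.AutOrder

open Matrix Polynomial

variable {F : Type*} [Field F] [Fintype F] {d : ℕ}

theorem half_count {d m a : ℕ} (hm : 2 ≤ m) (h : a * (m + 1) ^ m ≤ m ^ m * (m + 1) ^ d) :
    2 * a ≤ (m + 1) ^ d - 1 := by
  have key : 2 * m ^ m < (m + 1) ^ m := by
    have h2 : m ^ m + m * m ^ (m - 1) < (m + 1) ^ m := by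
      rw [add_pow]
      simp only [one_pow, mul_one]
      have hs : ({m, m - 1, 0} : Finset ℕ) ⊆ Finset.range (m + 1) := by
        intro x hx
        simp only [Finset.mem_insert, Finset.mem_singleton] at hx
        rw [Finset.mem_range]; omega
      refine lt_of_lt_of_le ?_ (Finset.sum_le_sum_of_subset hs)
      rw [Finset.sum_insert (by simp; omega), Finset.sum_insert (by simp; omega), Finset.sum_singleton]
      simp only [Nat.choose_self, Nat.choose_zero_right, Nat.cast_id, mul_one, pow_zero]
      rw [Nat.choose_symm (show 1 ≤ m by omega), Nat.choose_one_right]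
      have := mul_comm m (m ^ (m - 1))
      omega
    rw [← Nat.pow_succ' (n := m - 1), show (m - 1).succ = m by omega] at h2
    omega
  have hlt : 2 * a * (m + 1) ^ m < (m + 1) ^ d * (m + 1) ^ m := by
    calc 2 * a * (m + 1) ^ m = 2 * (a * (m + 1) ^ m) := by ring
      _ ≤ 2 * (m ^ m * (m + 1) ^ d) := Nat.mul_le_mul_left _ h
      _ = (2 * m ^ m) * (m + 1) ^ d := by ring
      _ < (m + 1) ^ m * (m + 1) ^ d := Nat.mul_lt_mul_of_pos_right key (pow_pos (by omega) _)
      _ = _ := by ring
  have := Nat.lt_of_mul_lt_mul_right hlt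
  omega

theorem ext_poly_vec {M : Matrix (Fin d) (Fin d) F} {v : Fin d → F} {a : F} (h : M *ᵥ v = a • v) :
    ∀ i : ℕ, (M ^ i) *ᵥ v = a ^ i • v
  | 0 => by simp
  | i + 1 => by
    rw [pow_succ, ← Matrix.mulVec_mulVec, h, Matrix.mulVec_smul, ext_poly_vec h i, smul_smul, pow_succ']

theorem comb_vec {M : Matrix (Fin d) (Fin d) F} {v : Fin d → F} {a : F} (h : M *ᵥ v = a • v) {m : ℕ}
    (c : Fin m → F) : comb M c *ᵥ v = (∑ i, c i * a ^ (i : ℕ)) • v := by
  rw [comb, Matrix.sum_mulVec, Finset.sum_smul]
  refine Finset.sum_congr rfl fun i _ => ?_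
  rw [Matrix.smul_mulVec, ext_poly_vec h, smul_smul]

/-- The coefficient vectors with no zero at a nonzero point. -/
noncomputable def goodVecs (F : Type*) [Field F] (d : ℕ) : Set (Fin d → F) :=
  {c | ∀ a : Fˣ, ∑ i, c i * (a : F) ^ (i : ℕ) ≠ 0}

theorem goodVecs_card [DecidableEq F] (hq : Fintype.card Fˣ ≤ d) :
    (goodVecs F d).ncard * Fintype.card F ^ Fintype.card Fˣ
      = Fintype.card Fˣ ^ Fintype.card Fˣ * Fintype.card F ^ d := by
  classical
  let φ : (Fin d → F) →+ (Fˣ → F) :=
    { toFun := fun c a => ∑ i, c i * (a : F) ^ (i : ℕ)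
      map_zero' := by funext a; simp
      map_add' := fun c c' => by funext a; simp [add_mul, Finset.sum_add_distrib] }
  have hsurj : Function.Surjective φ := by
    intro t
    set v : Fˣ → F := fun a => (a : F)
    set P := Lagrange.interpolate Finset.univ v t with hP
    have hinj : Set.InjOn v (Finset.univ : Finset Fˣ) := fun a _ b _ e => Units.ext e
    refine ⟨fun i => P.coeff i, funext fun a => ?_⟩
    have hdeg : P.natDegree < d := by
      rcases eq_or_ne P 0 with h0 | h0
      · rw [h0, natDegree_zero]; exact lt_of_lt_of_le Fintype.card_pos hq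
      · have h1 := Lagrange.degree_interpolate_lt (r := t) hinj
        rw [← hP, Finset.card_univ, degree_eq_natDegree h0, Nat.cast_lt] at h1
        omega
    show ∑ i : Fin d, P.coeff i * (a : F) ^ (i : ℕ) = t a
    rw [Fin.sum_univ_eq_sum_range (fun i => P.coeff i * (a : F) ^ i), ← eval_eq_sum_range' hdeg, hP]
    exact Lagrange.eval_interpolate_at_node t hinj (Finset.mem_univ a)
  have hfib : ∀ t, (Finset.univ.filter fun c => φ c = t).card = Nat.card φ.ker := by
    intro t
    obtain ⟨c0, rfl⟩ := hsurj t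
    rw [Nat.card_eq_fintype_card, Fintype.card_subtype]
    refine Finset.card_nbij' (fun c => c - c0) (fun c => c + c0) ?_ ?_ ?_ ?_
    · intro c hc
      simp only [Finset.coe_filter, Finset.mem_univ, true_and, Set.mem_setOf_eq, AddMonoidHom.mem_ker] at hc ⊢
      rw [map_sub, hc, sub_self]
    · intro c hc
      simp only [Finset.coe_filter, Finset.mem_univ, true_and, Set.mem_setOf_eq, AddMonoidHom.mem_ker] at hc ⊢
      rw [map_add, hc, zero_add]
    · intro c _; simp
    · intro c _; simp
  have htot : Fintype.card F ^ d = Fintype.card F ^ Fintype.card Fˣ * Nat.card φ.ker := by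
    have h := Finset.card_eq_sum_card_fiberwise (f := φ) (s := (Finset.univ : Finset (Fin d → F)))
      (t := Finset.univ) (fun _ _ => Finset.mem_univ _)
    simp only [hfib, Finset.card_univ, Finset.sum_const, smul_eq_mul, Fintype.card_fun, Fintype.card_fin] at h
    exact h
  set S := Fintype.piFinset fun _ : Fˣ => ({0}ᶜ : Finset F)
  have hgood : (goodVecs F d).ncard = S.card * Nat.card φ.ker := by
    have e : goodVecs F d = ↑(Finset.univ.filter fun c => φ c ∈ S) := by
      ext c
      simp [goodVecs, S, φ]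
    rw [e, Set.ncard_coe_finset]
    have h := Finset.card_eq_sum_card_fiberwise (f := φ) (s := Finset.univ.filter fun c => φ c ∈ S) (t := S)
      (fun c hc => by simpa using hc)
    rw [h, Finset.sum_congr rfl fun t ht => ?_, Finset.sum_const, smul_eq_mul]
    rw [← hfib t]
    congr 1
    ext c
    simp only [Finset.mem_filter, Finset.mem_univ, true_and, and_iff_right_iff_imp]
    intro hc
    rwa [hc]
  have hS : S.card = Fintype.card Fˣ ^ Fintype.card Fˣ := by
    rw [Fintype.card_piFinset, Finset.prod_const, Finset.card_univ, Finset.card_compl, Finset.card_singleton,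
      ← Fintype.card_units]
  rw [hgood, hS, htot]
  ring

theorem half_bound (hd : 3 ≤ d) (h32 : ¬ (d = 3 ∧ Fintype.card F = 2)) (σ : F ≃+* F) (g B : GL (Fin d) F)
    (hB : (g.val.map σ)ᵀ * B.val * g.val = B.val) :
    2 * ((Fintype.card F - 1) * pord g) ≤ Fintype.card F ^ d - 1 := by
  classical
  haveI : Nonempty (Fin d) := ⟨⟨0, by omega⟩⟩
  set q := Fintype.card F with hq
  have hq2 : 2 ≤ q := Fintype.one_lt_card
  have hd1 : 1 ≤ d := by omega
  set M := g.val with hM
  set H := (Subgroup.zpowers (QuotientGroup.mk g : GL (Fin d) F ⧸ Subgroup.center (GL (Fin d) F))).comap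
      (QuotientGroup.mk' (Subgroup.center (GL (Fin d) F)))
  have hH : Nat.card H = (q - 1) * pord g := comap_card hd1 g
  have hqd : q ^ 3 ≤ q ^ d := Nat.pow_le_pow_right (by omega) hd
  by_cases hquad : ∃ α β : F, M ^ 2 = α • M + β • (1 : Matrix (Fin d) (Fin d) F)
  · obtain ⟨α, β, h2⟩ := hquad
    have hdeg : ((X : F[X]) ^ 2 - C α * X - C β).natDegree = 2 := by compute_degree!
    have h := pord_le hd1 (RingEquiv.refl F) g (P := X ^ 2 - C α * X - C β) (by monicity!) (by omega)
      (by
        rw [map_sub, map_sub, map_pow, map_mul, aeval_X, aeval_C, aeval_C, Algebra.algebraMap_eq_smul_one,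
          Algebra.algebraMap_eq_smul_one, ← hM, h2, Matrix.smul_mul, one_mul]
        abel)
      (by ext i; simp)
    rw [hdeg, Nat.card_congr (Equiv.subtypeUnivEquiv fun x => show (RingEquiv.refl F) x = x from rfl),
      Nat.card_eq_fintype_card, ← hq] at h
    have : 2 * q ^ 2 ≤ q ^ d + 1 := by
      have : 2 * q ^ 2 ≤ q * q ^ 2 := Nat.mul_le_mul_right _ hq2
      have : q * q ^ 2 = q ^ 3 := by ring
      omega
    omega
  push Not at hquad
  -- the group of invertible polynomials
  set U := polyUnits g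
  have hHU : H ≤ U := fun x hx => by
    obtain ⟨i, a, -, he⟩ := comap_mem hd1 hx
    exact ⟨C a * X ^ i, by rw [map_mul, map_pow, aeval_X, aeval_C, Algebra.algebraMap_eq_smul_one,
      Matrix.smul_mul, one_mul, he]⟩
  have hP : M.charpoly.Monic := M.charpoly_monic
  have hdim : M.charpoly.natDegree = d := by rw [Matrix.charpoly_natDegree_eq_dim, Fintype.card_fin]
  have hvec : ∀ x : U, ∃ c : Fin d → F, comb M c = (x : GL (Fin d) F).val := by
    rintro ⟨x, Q, hQ⟩
    have h := comb_mod hP (by omega) (Matrix.aeval_self_charpoly M) Q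
    refine ⟨fun i => (Q %ₘ M.charpoly).coeff i, ?_⟩
    show _ = x.val
    rw [← hQ, ← h, comb, comb]
    exact Fintype.sum_equiv (finCongr hdim.symm) _ _ (fun i => rfl)
  choose cv hcv using hvec
  have hinj : Function.Injective cv := fun x y e => Subtype.ext (Units.ext (by rw [← hcv x, ← hcv y, e]))
  have hindex : (∃ r ∈ U, r ∉ H) → 2 * Nat.card H ≤ Nat.card U := by
    rintro ⟨r, hr, hrH⟩
    obtain ⟨k, hk⟩ := Subgroup.card_dvd_of_le hHU
    have hne : Nat.card H ≠ Nat.card U := fun e => hrH ((Subgroup.eq_of_le_of_card_ge hHU e.ge).symm ▸ hr)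
    have hpos : 0 < Nat.card U := Nat.card_pos
    rw [hk] at hne hpos ⊢
    have h1 : 1 ≠ k := fun e => hne (by rw [← e, mul_one])
    have h0 : k ≠ 0 := fun e => by rw [e, mul_zero] at hpos; omega
    rw [mul_comm 2]
    exact Nat.mul_le_mul_left _ (by omega)
  have hUle : Nat.card U ≤ q ^ d - 1 := by
    have h : Nat.card U ≤ Nat.card {c : Fin d → F // c ≠ 0} :=
      Nat.card_le_card_of_injective (fun x => ⟨cv x, fun e => (x : GL (Fin d) F).ne_zero (by
        rw [← hcv x, e, comb]; simp)⟩) fun x y e => hinj (congrArg Subtype.val e)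
    rwa [Nat.card_eq_fintype_card (α := {c : Fin d → F // c ≠ 0}), Fintype.card_subtype_compl, Fintype.card_fun,
      Fintype.card_fin, Fintype.card_subtype_eq] at h
  -- preservation of the form by scalar multiples of powers
  have hpowB : ∀ i : ℕ, ((M ^ i).map σ)ᵀ * B.val * M ^ i = B.val := by
    intro i
    induction i with
    | zero => simp
    | succ i ih =>
      have e : ((M ^ (i + 1)).map σ)ᵀ = (M.map σ)ᵀ * ((M ^ i).map σ)ᵀ := by
        rw [pow_succ, ← Matrix.transpose_mul]
        congr 1
        exact map_mul (σ : F →+* F).mapMatrix _ _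
      rw [e, pow_succ]
      calc (M.map σ)ᵀ * ((M ^ i).map σ)ᵀ * B.val * (M ^ i * M)
          = (M.map σ)ᵀ * (((M ^ i).map σ)ᵀ * B.val * M ^ i) * M := by simp only [mul_assoc]
        _ = _ := by rw [ih, hB]
  have hHB : ∀ x ∈ H, ∃ l : F, (x.val.map σ)ᵀ * B.val * x.val = l • B.val := by
    intro x hx
    obtain ⟨i, a, -, he⟩ := comap_mem hd1 hx
    refine ⟨σ a * a, ?_⟩
    have e : (a • g.val ^ i).map σ = σ a • (M ^ i).map σ := by ext j k; simp [hM]
    rw [he, e, Matrix.transpose_smul, Matrix.smul_mul, Matrix.smul_mul, Matrix.mul_smul, smul_smul, ← hM, hpowB]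
  by_cases hc : ∃ c : Fˣ, (M - (c : F) • (1 : Matrix (Fin d) (Fin d) F)).det ≠ 0
  · obtain ⟨c, hdet⟩ := hc
    set r : GL (Fin d) F := Matrix.GeneralLinearGroup.mkOfDetNeZero _ hdet
    have hrv : r.val = M - (c : F) • 1 := rfl
    refine le_trans (le_trans (by rw [← hH]) (hindex ⟨r, ⟨X - C (c : F), ?_⟩, fun hr => ?_⟩)) hUle
    · rw [map_sub, aeval_X, aeval_C, Algebra.algebraMap_eq_smul_one, hrv]
    · obtain ⟨l, hl⟩ := hHB r hr
      rw [hrv] at hl
      have emap : (M - (c : F) • (1 : Matrix (Fin d) (Fin d) F)).map σ = M.map σ - σ c • 1 := by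
        ext j k
        by_cases hjk : j = k <;> simp [hjk]
      rw [emap, Matrix.transpose_sub, Matrix.transpose_smul, Matrix.transpose_one] at hl
      set N := (M.map σ)ᵀ
      simp only [sub_mul, mul_sub, Matrix.smul_mul, Matrix.mul_smul, one_mul, mul_one] at hl
      have h2 := congrArg (· * M) hl
      simp only [sub_mul, Matrix.smul_mul] at h2
      rw [show N * B.val * M = B.val from hB] at h2
      have h3 := congrArg (B⁻¹.val * ·) h2
      simp only [mul_sub, Matrix.mul_smul, ← mul_assoc, Units.inv_mul, one_mul] at h3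
      have hB' : B⁻¹.val * N * B.val * M = 1 := by
        rw [mul_assoc, mul_assoc, ← mul_assoc N, show N * B.val * M = B.val from hB, Units.inv_mul]
      have hσc : σ (c : F) ≠ 0 := fun e => c.ne_zero (σ.injective (e.trans (map_zero σ).symm))
      refine hquad ((σ (c : F))⁻¹ * (1 + (c : F) * σ c - l)) (-((σ (c : F))⁻¹ * c)) ?_
      rw [sq]
      linear_combination (norm := skip) -(σ (c : F))⁻¹ • h3
      match_scalars <;> field_simp <;> ring
  push Not at hc
  -- every nonzero scalar is an eigenvalue
  have hm : Fintype.card Fˣ ≤ d := by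
    have hroot : ∀ c : Fˣ, (c : F) ∈ M.charpoly.roots := by
      intro c
      rw [mem_roots hP.ne_zero, IsRoot.def, Matrix.eval_charpoly, Matrix.scalar_apply, ← Matrix.smul_one_eq_diagonal,
        ← neg_sub, Matrix.det_neg, hc c, mul_zero]
    have h := Finset.card_le_card_of_injOn (fun c : Fˣ => (c : F)) (s := Finset.univ)
      (t := M.charpoly.roots.toFinset) (fun c _ => Multiset.mem_toFinset.2 (hroot c))
      fun a _ b _ e => Units.ext e
    rw [Finset.card_univ] at h
    exact h.trans ((Multiset.toFinset_card_le _).trans ((card_roots' _).trans hdim.le))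
  have hgoodmem : ∀ x : U, cv x ∈ goodVecs F d := by
    intro x a hz
    obtain ⟨v, hv, hv0⟩ := Matrix.exists_mulVec_eq_zero_iff.2 (hc a)
    rw [Matrix.sub_mulVec, Matrix.smul_mulVec, Matrix.one_mulVec, sub_eq_zero] at hv0
    have h := comb_vec hv0 (cv x)
    rw [hcv, hz, zero_smul] at h
    refine hv (Matrix.mulVec_injective_iff_isUnit.2 (x : GL (Fin d) F).isUnit ?_)
    rw [h, Matrix.mulVec_zero]
  have hUgood : Nat.card U ≤ (goodVecs F d).ncard := by
    rw [← Nat.card_coe_set_eq]
    exact Nat.card_le_card_of_injective (fun x => ⟨cv x, hgoodmem x⟩) fun x y e => hinj (congrArg Subtype.val e)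
  have hgood := goodVecs_card (F := F) hm
  have hu : Fintype.card Fˣ = q - 1 := Fintype.card_units F
  rw [← hH]
  rcases Nat.lt_or_ge 2 q with hq3 | hq3
  · have h2 := half_count (d := d) (m := q - 1) (a := Nat.card H) (by omega) (by
      rw [show q - 1 + 1 = q by omega]
      rw [hu] at hgood
      rw [← hgood]
      exact Nat.mul_le_mul_right _ (le_trans (Subgroup.card_le_of_le hHU) hUgood))
    rwa [show q - 1 + 1 = q by omega] at h2
  -- the field of two elements
  have hq' : q = 2 := by omega
  have hd4 : 4 ≤ d := by omega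
  have h01 : ∀ x : F, x = 0 ∨ x = 1 := by
    intro x
    by_contra h
    push Not at h
    have h3 : ({0, 1, x} : Finset F).card = 3 := Finset.card_eq_three.2 ⟨0, 1, x, zero_ne_one, h.1.symm, h.2.symm, rfl⟩
    have := Finset.card_le_univ ({0, 1, x} : Finset F)
    rw [h3, ← hq] at this
    omega
  have h20 : (2 : F) = 0 := (h01 2).resolve_right fun e => one_ne_zero (by
    rw [← one_add_one_eq_two, add_eq_left] at e; exact e)
  have hσ : ∀ x, σ x = x := fun x => by rcases h01 x with rfl | rfl <;> simp
  have hMσ : M.map σ = M := by ext i j; simp [hσ]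
  by_cases hdet : (M ^ 2 + M + 1).det ≠ 0
  · set r : GL (Fin d) F := Matrix.GeneralLinearGroup.mkOfDetNeZero _ hdet
    have hrv : r.val = M ^ 2 + M + 1 := rfl
    have hrU : r ∈ U := ⟨X ^ 2 + X + 1, by rw [map_add, map_add, map_pow, aeval_X, map_one, hrv]⟩
    by_cases hrH : r ∈ H
    · obtain ⟨l, hl⟩ := hHB r hrH
      have hl1 : l = 1 := (h01 l).resolve_left fun e => by
        rw [e, zero_smul] at hl
        have hu : IsUnit ((r.val.map σ)ᵀ * B.val * r.val) := by
          have e' : r.val.map σ = r.val := by ext i j; simp [hσ]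
          rw [e']
          exact ((r.isUnit.map (Matrix.transposeRingEquiv (Fin d) F).toMonoidHom) |> fun h => by
            have ht : IsUnit r.valᵀ := (Matrix.isUnit_iff_isUnit_det _).2 (by
              rw [Matrix.det_transpose]; exact (Matrix.isUnit_iff_isUnit_det _).1 r.isUnit)
            exact (ht.mul B.isUnit).mul r.isUnit)
        rw [hl] at hu
        exact not_isUnit_zero hu
      rw [hl1, one_smul, hrv] at hl
      rw [hMσ] at hB
      have emap : (M ^ 2 + M + 1).map σ = M ^ 2 + M + 1 := by ext i j; simp [hσ]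
      rw [emap, Matrix.transpose_add, Matrix.transpose_add, Matrix.transpose_one, Matrix.transpose_pow] at hl
      have e1 : (Mᵀ ^ 2 + Mᵀ + 1) * B.val * M ^ 2 = B.val * (M ^ 2 + M + 1) := by
        have a1 : Mᵀ * B.val * M ^ 2 = B.val * M := by rw [sq, ← mul_assoc, hB]
        have a2 : Mᵀ ^ 2 * B.val * M ^ 2 = B.val := by
          rw [sq, sq]
          calc Mᵀ * Mᵀ * B.val * (M * M) = Mᵀ * (Mᵀ * B.val * M) * M := by simp only [mul_assoc]
            _ = _ := by rw [hB, hB]
        rw [add_mul, add_mul, add_mul, add_mul, one_mul, a1, a2, mul_add, mul_add, mul_one]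
        abel
      have hrr : (M ^ 2 + M + 1) * (M ^ 2 + M + 1) = M ^ 2 := by
        refine (B.isUnit.mul_right_inj).1 ?_
        calc B.val * ((M ^ 2 + M + 1) * (M ^ 2 + M + 1))
            = ((Mᵀ ^ 2 + Mᵀ + 1) * B.val * M ^ 2) * (M ^ 2 + M + 1) := by rw [e1, mul_assoc]
          _ = (Mᵀ ^ 2 + Mᵀ + 1) * B.val * (M ^ 2 + M + 1) * M ^ 2 := by
            rw [mul_assoc _ (M ^ 2) _, mul_assoc _ (M ^ 2 + M + 1) (M ^ 2)]
            congr 1
            simp only [mul_add, add_mul, mul_one, one_mul, ← pow_succ, ← pow_succ', ← pow_add]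
          _ = B.val * M ^ 2 := by rw [hl]
      have h4 : M ^ 4 = 1 := by
        have hneg : ∀ X : Matrix (Fin d) (Fin d) F, X + X = 0 := fun X => by
          rw [← two_smul F, h20, zero_smul]
        have expand : (M ^ 2 + M + 1) * (M ^ 2 + M + 1)
            = M ^ 4 + 1 + M ^ 2 + (M ^ 3 + M ^ 3) + (M + M) + (M ^ 2 + M ^ 2) := by noncomm_ring
        rw [expand, hneg, hneg, hneg, add_zero, add_zero, add_zero, add_eq_right] at hrr
        have := hneg 1
        rw [← hrr] at this
        calc M ^ 4 = M ^ 4 + (1 + 1) := by rw [hneg 1, add_zero]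
          _ = M ^ 4 + 1 + 1 := by rw [add_assoc]
          _ = 1 := by rw [hrr, zero_add]
      have hp : pord g ∣ 4 := orderOf_dvd_of_pow_eq_one (by
        rw [← QuotientGroup.mk_pow, show g ^ 4 = 1 from Units.ext (by rw [Units.val_pow_eq_pow_val, ← hM, h4, Units.val_one])]
        rfl)
      have := Nat.le_of_dvd (by norm_num) hp
      have h16 : 2 ^ 4 ≤ 2 ^ d := Nat.pow_le_pow_right (by norm_num) hd4
      rw [hH, hq']
      omega
    · exact le_trans (hindex ⟨r, hrU, hrH⟩) hUle
  · push Not at hdet
    let c0 : Fin d → F := fun i => if (i : ℕ) < 3 then 1 else 0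
    have hfil : (Finset.range d).filter (fun i => i < 3) = Finset.range 3 := by
      ext i; simp only [Finset.mem_filter, Finset.mem_range]; omega
    have hc0 : comb M c0 = M ^ 2 + M + 1 := by
      simp only [comb, c0, ite_smul, one_smul, zero_smul]
      rw [Fin.sum_univ_eq_sum_range (fun i => if i < 3 then M ^ i else 0), ← Finset.sum_filter, hfil,
        Finset.sum_range_succ, Finset.sum_range_succ, Finset.sum_range_one, pow_zero, pow_one]
      abel
    have hc0g : c0 ∈ goodVecs F d := by
      intro a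
      have ha : (a : F) = 1 := (h01 a).resolve_left a.ne_zero
      simp only [ha, one_pow, mul_one, c0]
      rw [Fin.sum_univ_eq_sum_range (fun i => if i < 3 then (1 : F) else 0), ← Finset.sum_filter, hfil,
        Finset.sum_range_succ, Finset.sum_range_succ, Finset.sum_range_one, one_add_one_eq_two, h20, zero_add]
      exact one_ne_zero
    have hlt : Nat.card U + 1 ≤ (goodVecs F d).ncard := by
      have hsub : Set.range cv ⊆ goodVecs F d \ {c0} := by
        rintro _ ⟨x, rfl⟩
        refine ⟨hgoodmem x, fun e => ?_⟩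
        have hx := (Matrix.isUnit_iff_isUnit_det _).1 (x : GL (Fin d) F).isUnit
        rw [← hcv x, show cv x = c0 from e, hc0, hdet] at hx
        exact not_isUnit_zero hx
      have h1 := Set.ncard_le_ncard hsub
      rw [Set.ncard_range_of_injective hinj, Set.ncard_diff_singleton_of_mem hc0g] at h1
      have : 0 < (goodVecs F d).ncard := (Set.ncard_pos).2 ⟨c0, hc0g⟩
      omega
    rw [hu, ← hq, hq'] at hgood
    have hle := Subgroup.card_le_of_le hHU
    rw [hH] at hle ⊢
    rw [show q - 1 = 1 by omega, one_mul] at hle ⊢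
    simp only [Nat.reduceSub, one_pow, pow_one, one_mul] at hgood
    rw [hq'] at ⊢
    omega

end Cfsg.Agent.Small.AutOrder
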