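import Cfsg.Agent.Lib.Small.AutOrder.Form
import Cfsg.Agent.Lib.Small.PSLn.Out

/-!
The largest order of an automorphism of `PSL_d(q)`.
-/

set_option autoImplicit false
set_option linter.unusedSectionVars false

namespace Cfsg.Agent.Small.AutOrder

open Matrix Polynomial Cfsg.Agent.Small.PSLn

variable {F : Type*} [Field F] [Fintype F] {d : ℕ}

local notation "Pn" => Matrix.ProjectiveSpecialLinearGroup (Fin d) F

theorem card_fixed (ρ : F ≃+* F) : Nat.card {x : F // ρ x = x} ^ orderOf ρ = Fintype.card F := by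
  classical
  let G : Subgroup (RingAut F) := Subgroup.zpowers ρ
  haveI : Finite (RingAut F) := Finite.of_injective (fun f : RingAut F => (f : F → F)) DFunLike.coe_injective
  letI := Fintype.ofFinite G
  haveI : FaithfulSMul G F := ⟨fun {a b} h => Subtype.ext (RingEquiv.ext h)⟩
  have h1 := FixedPoints.finrank_eq_card G F
  have e : Nat.card (FixedPoints.subfield G F) = Nat.card {x : F // ρ x = x} := by
    refine Nat.card_congr (Equiv.subtypeEquivRight fun x => ⟨fun hx => hx ⟨ρ, Subgroup.mem_zpowers ρ⟩, fun hx g => ?_⟩)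
    have hle : G ≤ MulAction.stabilizer (RingAut F) x := Subgroup.zpowers_le.2 hx
    exact hle g.2
  have h2 := Module.natCard_eq_pow_finrank (K := FixedPoints.subfield G F) (V := F)
  rw [h1, e, Nat.card_eq_fintype_card (α := F), ← Nat.card_eq_fintype_card (α := G), Nat.card_zpowers] at h2
  exact h2.symm

theorem fixed_two_le (ρ : F ≃+* F) : 2 ≤ Nat.card {x : F // ρ x = x} := by
  haveI : Nontrivial {x : F // ρ x = x} :=
    ⟨⟨⟨0, map_zero ρ⟩, ⟨1, map_one ρ⟩, fun e => zero_ne_one (congrArg Subtype.val e)⟩⟩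
  exact Finite.one_lt_card

theorem geom_top {x k : ℕ} (hx : 2 ≤ x) : ∑ i ∈ Finset.range (k + 1), x ^ i ≤ 2 * x ^ k := by
  induction k with
  | zero => simp
  | succ k ih =>
    rw [Finset.sum_range_succ]
    have : 2 * x ^ k ≤ x ^ (k + 1) := by rw [pow_succ']; exact Nat.mul_le_mul_right _ hx
    omega

theorem exp_bound {q0 e : ℕ} (hq : 2 ≤ q0) (he : 3 ≤ e) : 4 * e ≤ q0 ^ (2 * (e - 1)) := by
  refine le_trans ?_ (Nat.pow_le_pow_left hq _)
  induction e, he using Nat.le_induction with
  | base => norm_num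
  | succ e he ih =>
    rw [show 2 * (e + 1 - 1) = 2 * (e - 1) + 2 by omega, pow_add]
    omega

theorem ratio {q0 e c d : ℕ} (hq : 2 ≤ q0) (he : 2 ≤ e) (hd : 2 ≤ d) (h2 : d = 2 → c = e ∧ ¬ (q0 = 2 ∧ e = 2))
    (hc : c ≤ 2 * e) (hsmall : e = 2 → c = 2 ∨ 3 ≤ q0) :
    c * ∑ i ∈ Finset.range d, q0 ^ i ≤ ∑ i ∈ Finset.range d, (q0 ^ e) ^ i := by
  rcases eq_or_lt_of_le hd with rfl | hd3
  · obtain ⟨rfl, hne⟩ := h2 rfl
    simp only [Finset.sum_range_succ, Finset.sum_range_zero, zero_add, pow_zero, pow_one]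
    rcases eq_or_lt_of_le he with rfl | he3
    · have : 3 ≤ q0 := by
        by_contra h
        exact hne ⟨by omega, rfl⟩
      nlinarith
    · clear hc hsmall h2 hne
      induction c, (show 3 ≤ c from he3) using Nat.le_induction with
      | base =>
        have : 2 * 2 * q0 ≤ q0 * q0 * q0 := Nat.mul_le_mul (Nat.mul_le_mul hq hq) le_rfl
        rw [show q0 ^ 3 = q0 * q0 * q0 by ring]
        omega
      | succ k hk ih =>
        have h := ih (by omega) (by omega)
        have h3 : q0 * (k * (1 + q0)) ≤ q0 * (1 + q0 ^ k) := Nat.mul_le_mul_left _ h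
        have h4 : 2 * (k * (1 + q0)) ≤ q0 * (k * (1 + q0)) := Nat.mul_le_mul_right _ hq
        have h5 : 3 * (1 + q0) ≤ k * (1 + q0) := Nat.mul_le_mul_right _ hk
        rw [pow_succ', add_mul, one_mul]
        have h6 : q0 * (1 + q0 ^ k) = q0 + q0 * q0 ^ k := by ring
        omega
  · obtain ⟨k, rfl⟩ : ∃ k, d = k + 1 := ⟨d - 1, by omega⟩
    have htop : (q0 ^ e) ^ k ≤ ∑ i ∈ Finset.range (k + 1), (q0 ^ e) ^ i :=
      Finset.single_le_sum (fun i _ => Nat.zero_le ((q0 ^ e) ^ i)) (Finset.self_mem_range_succ k)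
    refine le_trans ?_ htop
    refine le_trans (Nat.mul_le_mul_left _ (geom_top hq)) ?_
    rw [← pow_mul, show e * k = (e - 1) * k + k by
      obtain ⟨f, rfl⟩ : ∃ f, e = f + 1 := ⟨e - 1, by omega⟩
      rw [Nat.add_sub_cancel]; ring, pow_add, ← mul_assoc]
    refine Nat.mul_le_mul_right _ (le_trans ?_ (Nat.pow_le_pow_right (by omega)
      (show 2 * (e - 1) ≤ (e - 1) * k by rw [mul_comm]; exact Nat.mul_le_mul_left _ (by omega))))
    rcases eq_or_lt_of_le he with rfl | he3
    · rw [show 2 * (2 - 1) = 2 from rfl]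
      rcases hsmall rfl with rfl | h3
      · nlinarith
      · nlinarith
    · exact le_trans (by omega) (exp_bound hq he3)

/-- A bound on the order of a matrix modulo scalars gives the bound for an extension of the field. -/
theorem combine {q0 e c d o : ℕ} (hq : 2 ≤ q0) (ho : (q0 - 1) * o ≤ q0 ^ d - 1)
    (hr : c * ∑ i ∈ Finset.range d, q0 ^ i ≤ ∑ i ∈ Finset.range d, (q0 ^ e) ^ i) :
    (q0 ^ e - 1) * (c * o) ≤ (q0 ^ e) ^ d - 1 := by
  have key : ∀ x : ℕ, 1 ≤ x → (x - 1) * ∑ i ∈ Finset.range d, x ^ i = x ^ d - 1 := by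
    intro x hx
    have h := geom_sum_mul_add (x - 1) d
    rw [Nat.sub_add_cancel hx] at h
    rw [mul_comm]
    omega
  rw [← key q0 (by omega)] at ho
  rw [← key (q0 ^ e) (Nat.one_le_pow _ _ (by omega))]
  exact Nat.mul_le_mul_left _ (le_trans (Nat.mul_le_mul_left _ (Nat.le_of_mul_le_mul_left ho (by omega))) hr)

/-- The iterated product of a matrix under a twist. -/
def iterN (τ : GL (Fin d) F →* GL (Fin d) F) (g : GL (Fin d) F) : ℕ → GL (Fin d) F
  | 0 => 1
  | k + 1 => g * τ (iterN τ g k)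

theorem iterN_succ (τ : GL (Fin d) F →* GL (Fin d) F) (g : GL (Fin d) F) :
    ∀ k, iterN τ g (k + 1) = iterN τ g k * (⇑τ)^[k] g
  | 0 => by simp [iterN]
  | k + 1 => by
    conv_lhs => rw [iterN, iterN_succ τ g k, map_mul, ← mul_assoc]
    rw [Function.iterate_succ_apply']
    rfl

theorem iterN_comm (τ : GL (Fin d) F →* GL (Fin d) F) (g : GL (Fin d) F) {L : ℕ}
    (hL : (⇑τ)^[L] g = g) : g * τ (iterN τ g L) = iterN τ g L * g := by
  have h := iterN_succ τ g L
  rw [hL] at h
  exact h

theorem decomp_pow (g : GL (Fin d) F) (σ : F ≃+* F) (ε : Multiplicative (ZMod 2)) :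
    ∀ k : ℕ, ((conjP g * fieldP σ * gam ε : MulAut Pn)) ^ k =
      conjP (iterN ((glField σ).comp (glGam ε)) g k) * fieldP (σ ^ k) * gam (ε ^ k)
  | 0 => by simp [iterN]
  | k + 1 => by
    rw [pow_succ', decomp_pow g σ ε k, decomp_mul, ← pow_succ', ← pow_succ', iterN, MonoidHom.comp_apply]

theorem orderOf_conjP (hd : 2 ≤ d) (g : GL (Fin d) F) : orderOf (conjP g : MulAut Pn) = pord g := by
  refine Nat.dvd_antisymm (orderOf_dvd_of_pow_eq_one ?_) (orderOf_dvd_of_pow_eq_one ?_)
  · rw [← map_pow, ← MonoidHom.mem_ker, conjP_ker hd, ← QuotientGroup.eq_one_iff, QuotientGroup.mk_pow]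
    exact pow_orderOf_eq_one _
  · rw [← QuotientGroup.mk_pow, QuotientGroup.eq_one_iff, ← conjP_ker hd, MonoidHom.mem_ker, map_pow,
      pow_orderOf_eq_one]

theorem order_le_mul (hd : 2 ≤ d) (g : GL (Fin d) F) (σ : F ≃+* F) (ε : Multiplicative (ZMod 2)) {L : ℕ}
    (hσ : σ ^ L = 1) (hε : ε ^ L = 1) (hL : 0 < L) :
    orderOf (conjP g * fieldP σ * gam ε : MulAut Pn) ≤
      L * pord (iterN ((glField σ).comp (glGam ε)) g L) := by
  set N := iterN ((glField σ).comp (glGam ε)) g L
  refine Nat.le_of_dvd (Nat.mul_pos hL (orderOf_pos _)) (orderOf_dvd_of_pow_eq_one ?_)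
  rw [pow_mul, decomp_pow, hσ, hε, map_one, map_one, mul_one, mul_one, ← orderOf_conjP hd]
  exact pow_orderOf_eq_one _

theorem charpoly_fixed {ρ : F ≃+* F} {N h : GL (Fin d) F} (e : glField ρ N = h⁻¹ * N * h) :
    N.val.charpoly.map (ρ : F →+* F) = N.val.charpoly := by
  rw [← Matrix.charpoly_map]
  have e' := congrArg Units.val e
  rw [glField_val, Units.val_mul, Units.val_mul] at e'
  have e2 : N.val.map ⇑(ρ : F →+* F) = (h⁻¹).val * N.val * h.val := e'
  rw [e2, Matrix.coe_units_inv]
  exact Matrix.charpoly_units_conj' h N.val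

theorem pord_fixed (hd : 1 ≤ d) {ρ : F ≃+* F} {N h : GL (Fin d) F} (e : glField ρ N = h⁻¹ * N * h) :
    (Nat.card {x : F // ρ x = x} - 1) * pord N ≤ Nat.card {x : F // ρ x = x} ^ d - 1 := by
  have hdim : N.val.charpoly.natDegree = d := by rw [Matrix.charpoly_natDegree_eq_dim, Fintype.card_fin]
  have := pord_le hd ρ N N.val.charpoly_monic (by omega) (Matrix.aeval_self_charpoly _) (charpoly_fixed e)
  rwa [hdim] at this

theorem glIt_glIt (x : GL (Fin d) F) : glIt (glIt x) = x := by
  apply Units.ext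
  rw [glIt_val, glIt_inv_val, Matrix.transpose_transpose]

theorem glField_glIt (σ : F ≃+* F) (x : GL (Fin d) F) : glField σ (glIt x) = glIt (glField σ x) := by
  apply Units.ext
  rw [glField_val, glIt_val, glIt_val, ← map_inv, glField_val, Matrix.transpose_map]

theorem glField_mul (σ τ : F ≃+* F) (x : GL (Fin d) F) : glField σ (glField τ x) = glField (σ * τ) x := by
  apply Units.ext
  rw [glField_val, glField_val, glField_val, Matrix.map_map]
  rfl

theorem glField_iter (σ : F ≃+* F) (x : GL (Fin d) F) : ∀ k : ℕ, (⇑(glField σ))^[k] x = glField (σ ^ k) x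
  | 0 => by apply Units.ext; ext i j; simp [glField_val]
  | k + 1 => by
    rw [Function.iterate_succ_apply', glField_iter σ x k, glField_mul, ← pow_succ']

theorem aut_order_le (hd : 2 ≤ d) (h24 : ¬ (d = 2 ∧ Fintype.card F = 4))
    (h32 : ¬ (d = 3 ∧ Fintype.card F = 2)) (φ : MulAut Pn) :
    (Fintype.card F - 1) * orderOf φ ≤ Fintype.card F ^ d - 1 := by
  haveI : Finite (F ≃+* F) := Finite.of_injective (fun f : F ≃+* F => (f : F → F)) DFunLike.coe_injective
  obtain ⟨g, σ, ε, hεd, rfl⟩ := aut_decomp_all hd φ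
  rcases two_cases ε with rfl | rfl
  · have hL : 0 < orderOf σ := orderOf_pos σ
    have h1 := order_le_mul hd g σ 1 (pow_orderOf_eq_one σ) (one_pow _) hL
    have hτ : (glField σ).comp (glGam (n := d) (F := F) 1) = glField σ := by
      simp [glGam]
    rw [hτ] at h1
    set N := iterN (glField σ) g (orderOf σ)
    have e : glField σ N = g⁻¹ * N * g := by
      rw [mul_assoc, ← iterN_comm (glField σ) g (L := orderOf σ) (by
        rw [glField_iter, pow_orderOf_eq_one]; apply Units.ext; ext i j; simp [glField_val]), inv_mul_cancel_left]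
    have h2 := pord_fixed (by omega) e
    have hq := fixed_two_le σ
    rcases Nat.lt_or_ge (orderOf σ) 2 with he | he
    · have hs : orderOf σ = 1 := by omega
      rw [hs, one_mul] at h1
      have hF := card_fixed σ
      rw [hs, pow_one] at hF
      rw [hF] at h2
      exact le_trans (Nat.mul_le_mul_left _ h1) h2
    · have hr := ratio (c := orderOf σ) hq he hd (fun h => ⟨rfl, fun h' => h24 ⟨h, by
        rw [← card_fixed σ, h'.1, h'.2]; rfl⟩⟩) (by omega) (fun h => Or.inl h)
      have := combine (o := pord N) hq h2 hr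
      rw [card_fixed σ] at this
      exact le_trans (Nat.mul_le_mul_left _ h1) this
  · have hd3 : 3 ≤ d := by
      by_contra h
      exact absurd (hεd (by omega)) (by decide)
    set τ := (glField σ).comp (glGam (n := d) (F := F) (Multiplicative.ofAdd (1 : ZMod 2))) with hτdef
    have hτ : ∀ x, τ x = glField σ (glIt x) := fun x => by
      rw [hτdef, glGam, if_neg (by decide)]; rfl
    have hττ : ∀ x, τ (τ x) = glField (σ ^ 2) x := fun x => by
      rw [hτ, hτ, ← glField_glIt, glIt_glIt, glField_mul, sq]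
    have hiter : ∀ m x, (⇑τ)^[2 * m] x = glField ((σ ^ 2) ^ m) x := by
      intro m x
      rw [Function.iterate_mul]
      have : (⇑τ)^[2] = ⇑(glField (σ ^ 2) : GL (Fin d) F →* GL (Fin d) F) := funext fun y => hττ y
      rw [this, glField_iter]
    set e := orderOf (σ ^ 2) with he
    have hpos : 0 < e := orderOf_pos _
    have hσL : σ ^ (2 * e) = 1 := by rw [pow_mul]; exact pow_orderOf_eq_one _
    have hεL : (Multiplicative.ofAdd (1 : ZMod 2)) ^ (2 * e) = 1 := by
      rw [pow_mul, show (Multiplicative.ofAdd (1 : ZMod 2)) ^ 2 = 1 by decide, one_pow]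
    have h1 := order_le_mul hd g σ _ hσL hεL (by omega)
    set N := iterN τ g (2 * e) with hN
    have e1 : g * τ N = N * g := iterN_comm τ g (by
      rw [hiter, pow_orderOf_eq_one]; apply Units.ext; ext i j; simp [glField_val])
    rcases Nat.lt_or_ge e 2 with he2 | he2
    · have he1 : e = 1 := by omega
      rw [he1, mul_one] at h1
      have hN2 : glField σ (glIt N) = g⁻¹ * N * g := by
        rw [← hτ, mul_assoc, ← e1, inv_mul_cancel_left]
      have hB : (N.val.map σ)ᵀ * (g⁻¹ : GL (Fin d) F).val * N.val = (g⁻¹ : GL (Fin d) F).val := by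
        have h3 : (glIt (glField σ N))⁻¹ * g⁻¹ * N = g⁻¹ := by
          rw [← glField_glIt, hN2]; group
        have h4 := congrArg Units.val h3
        rw [Units.val_mul, Units.val_mul, glIt_inv_val, glField_val] at h4
        exact h4
      have h5 := half_bound hd3 h32 σ N g⁻¹ hB
      have h6 := Nat.mul_le_mul_left (Fintype.card F - 1) h1
      rw [mul_left_comm] at h6
      exact le_trans h6 h5
    · have e2 : glField (σ ^ 2) N = (g * τ g)⁻¹ * N * (g * τ g) := by
        have h3 := congrArg τ e1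
        rw [map_mul, map_mul, hττ] at h3
        have h4 : τ N = g⁻¹ * N * g := by rw [mul_assoc, ← e1, inv_mul_cancel_left]
        rw [h4] at h3
        rw [eq_comm, _root_.mul_inv_rev]
        calc (τ g)⁻¹ * g⁻¹ * N * (g * τ g) = (τ g)⁻¹ * (g⁻¹ * N * g * τ g) := by group
          _ = _ := by rw [← h3, inv_mul_cancel_left]
      have h2 := pord_fixed (by omega) e2
      have hq := fixed_two_le (σ ^ 2)
      have hr := ratio (c := 2 * e) hq he2 hd (fun h => absurd h (by omega)) le_rfl (fun h => Or.inr (by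
        -- the fixed field of σ² is then the quadratic extension of the fixed field of σ
        have ho : orderOf σ = 2 ^ 2 := orderOf_eq_prime_pow (hp := ⟨Nat.prime_two⟩) (by
          rw [pow_one]; intro hh; rw [he, hh, orderOf_one] at h; omega) (by
          rw [show 2 ^ (1 + 1) = 2 * e by rw [h]; rfl]; exact hσL)
        have h5 := card_fixed σ
        have h6 := card_fixed (σ ^ 2)
        rw [ho] at h5
        rw [← he, h] at h6
        have h7 := fixed_two_le σ
        set a := Nat.card {x : F // σ x = x}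
        set b := Nat.card {x : F // (σ ^ 2) x = x}
        by_contra hb
        have hb2 : b = 2 := by omega
        have h8 : 2 ^ 4 ≤ a ^ 4 := Nat.pow_le_pow_left h7 4
        rw [hb2] at h6
        rw [show (2 : ℕ) ^ 2 = 4 from rfl] at h5 h6
        omega))
      have := combine (o := pord N) hq h2 hr
      rw [he, card_fixed (σ ^ 2), ← he] at this
      exact le_trans (Nat.mul_le_mul_left _ h1) this

theorem main (hd : 2 ≤ d) (h24 : ¬ (d = 2 ∧ Fintype.card F = 4)) (h32 : ¬ (d = 3 ∧ Fintype.card F = 2)) :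
    (∀ φ : MulAut Pn, (Fintype.card F - 1) * orderOf φ ≤ Fintype.card F ^ d - 1) ∧
    (∃ φ : MulAut Pn, (Fintype.card F - 1) * orderOf φ = Fintype.card F ^ d - 1) := by
  refine ⟨aut_order_le hd h24 h32, ?_⟩
  obtain ⟨x, hx⟩ := (PGLOrder.main (F := F) (d := d) (by omega)).2
  obtain ⟨g, rfl⟩ := QuotientGroup.mk_surjective x
  exact ⟨conjP g, by rw [orderOf_conjP hd]; exact hx⟩

end Cfsg.Agent.Small.AutOrder
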